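import Groth.Agent.Stk19.AlgSt.PointsTop
import Groth.Agent.AlgSpLib.PointsTop

/-! The open substack on an open set of points of an algebraic stack. -/

set_option autoImplicit false
set_option backward.isDefEq.respectTransparency false
set_option backward.isDefEq.respectTransparency.types false

universe u

open CategoryTheory CategoryTheory.Limits AlgebraicGeometry Opposite FibCat Groth.Agent.Stk19

namespace Groth.Agent.Stk19b

variable {S : Scheme.{u}} {𝒳 : AlgSt.Cat S}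

/-- The points of `|𝒳|` met by an object. -/
def ptsOf (y : 𝒳.obj) : Set (AlgSt.Points 𝒳) :=
  {z | ∃ p : AlgSt.FPt 𝒳, AlgSt.Points.mk p = z ∧ Nonempty (p.obj ⟶ y)}

/-- The objects all of whose points lie in `W`. -/
def inSet (W : Set (AlgSt.Points 𝒳)) : 𝒳.obj → Prop := fun y => ptsOf y ⊆ W

theorem ptsOf_mono {y' y : 𝒳.obj} (φ : y' ⟶ y) : ptsOf y' ⊆ ptsOf y :=
  fun _ ⟨p, hp, ⟨ψ⟩⟩ => ⟨p, hp, ⟨ψ ≫ φ⟩⟩

theorem mk_mem_ptsOf (p : AlgSt.FPt 𝒳) : AlgSt.Points.mk p ∈ ptsOf p.obj :=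
  ⟨p, rfl, ⟨𝟙 _⟩⟩

theorem inSet_of_hom {W : Set (AlgSt.Points 𝒳)} {y' y : 𝒳.obj} (φ : y' ⟶ y) (h : inSet W y) : inSet W y' :=
  (ptsOf_mono φ).trans h

theorem isClosedUnderIso_inSet (W : Set (AlgSt.Points 𝒳)) :
    ObjectProperty.IsClosedUnderIsomorphisms (inSet W) :=
  ⟨fun e h => inSet_of_hom e.inv h⟩

theorem ptsOf_chart (h : IsFibGrpd 𝒳.p) {U : Over S} (x : overCat U ⥤ᵇ 𝒳) (a : (overCat U).obj) :
    ptsOf (x.obj a) = AlgSt.Points.ofChart x '' Set.range a.hom.left := by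
  ext z
  constructor
  · rintro ⟨p, rfl, ⟨φ⟩⟩
    let g : Over.mk p.str ⟶ a.left := eqToHom p.lies.symm ≫ 𝒳.p.map φ ≫ eqToHom (x.w_obj a)
    let b : (overCat U).obj := Over.mk (g ≫ a.hom)
    let β : b ⟶ a := Over.homMk g rfl
    let g' : 𝒳.p.obj p.obj ⟶ 𝒳.p.obj (x.obj b) := eqToHom (p.lies.trans (x.w_obj b).symm)
    obtain ⟨χ, -, -⟩ := fibGrpd_fac h (x.map β) φ g' (by
      rw [based_map x β]
      show eqToHom _ ≫ _ ≫ g ≫ _ = _
      simp [g])
    let q' : AlgSt.FPt (overCat a.left) := { K := p.K, str := p.str, obj := Over.mk g, lies := rfl }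
    obtain ⟨k, hk⟩ := (ofChart_id_bijective a.left).2 (AlgSt.Points.mk q')
    refine ⟨a.hom.left k, ⟨k, rfl⟩, ?_⟩
    rw [← ofChart_overMap a.hom x k, ofChart_eq_map, hk]
    exact AlgSt.Points.sound ⟨p, χ, 𝟙 _, trivial⟩
  · rintro ⟨_, ⟨k, rfl⟩, rfl⟩
    let fs : Over.mk (a.left.left.fromSpecResidueField k ≫ a.left.hom) ⟶ a.left :=
      Over.homMk (a.left.left.fromSpecResidueField k) rfl
    let p : AlgSt.FPt 𝒳 :=
      { K := ↥(a.left.left.residueField k), str := a.left.left.fromSpecResidueField k ≫ a.left.hom,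
        obj := x.obj ((AlgSt.overMap a.hom).obj (Over.mk fs)), lies := x.w_obj _ }
    exact ⟨p, ofChart_overMap a.hom x k, ⟨x.map (Over.homMk fs rfl)⟩⟩

theorem inSet_chart_iff (h : IsFibGrpd 𝒳.p) {U : Over S} (x : overCat U ⥤ᵇ 𝒳) (a : (overCat U).obj)
    (W : Set (AlgSt.Points 𝒳)) :
    inSet W (x.obj a) ↔ ∀ k, AlgSt.Points.ofChart x (a.hom.left k) ∈ W := by
  rw [inSet, ptsOf_chart h x a, Set.image_subset_iff, Set.range_subset_iff]
  rfl

/-- A full subcategory stable under pullback is fibred in groupoids. -/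
theorem fibGrpd_fullSub (h : IsFibGrpd 𝒳.p) {Q : 𝒳.obj → Prop} (hQ : ∀ ⦃a b : 𝒳.obj⦄ (_ : a ⟶ b), Q b → Q a) :
    IsFibGrpd (AlgSt.fullSub 𝒳 Q).p :=
  fibGrpd_mk
    (fun t V f => by
      obtain ⟨y, φ, e, hφ⟩ := fibGrpd_lift h t.obj f
      exact ⟨⟨y, hQ φ t.property⟩, ObjectProperty.homMk φ, e, hφ⟩)
    (fun φ ψ g hg => by
      obtain ⟨χ, hχ, hu⟩ := fibGrpd_fac h φ.hom ψ.hom g hg
      exact ⟨ObjectProperty.homMk χ, ⟨hχ.1, ObjectProperty.hom_ext _ hχ.2⟩,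
        fun k hk => ObjectProperty.hom_ext _ (hu k.hom ⟨hk.1, congrArg (fun m => m.hom) hk.2⟩)⟩)

instance subIncl_full (Q : 𝒳.obj → Prop) : (AlgSt.subIncl 𝒳 Q).toFunctor.Full :=
  inferInstanceAs (ObjectProperty.ι Q).Full

instance subIncl_faithful (Q : 𝒳.obj → Prop) : (AlgSt.subIncl 𝒳 Q).toFunctor.Faithful :=
  inferInstanceAs (ObjectProperty.ι Q).Faithful

/-- The inclusion of the objects with points in an open set is an open immersion. -/
theorem isOpenImm_subIncl_inSet (h𝒳 : AlgSt.IsAlgStack Scheme.fppfPrecoverage 𝒳)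
    {W : Set (AlgSt.Points 𝒳)} (hW : IsOpen W) : AlgSt.IsOpenImm (AlgSt.subIncl 𝒳 (inSet W)) := by
  intro U y
  have h := h𝒳.isStack.1
  let O : U.left.Opens := ⟨AlgSt.Points.ofChart y ⁻¹' W, hW.preimage (continuous_ofChart h𝒳 y)⟩
  let U' : Over S := Over.mk (O.ι ≫ U.hom)
  let u : U' ⟶ U := Over.homMk O.ι
  have hu : Mono u := (Over.forget S).mono_of_mono_map (inferInstanceAs (Mono O.ι))
  let z : overCat U' ⥤ᵇ 𝒳 := BasedFunctor.comp (AlgSt.overMap u) y
  have hz : ∀ a, inSet W (z.obj a) := fun a => (inSet_chart_iff h z a W).2 fun k => by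
    rw [ofChart_overMap]
    exact (a.hom.left k).2
  let L : overCat U' ⥤ᵇ AlgSt.fullSub 𝒳 (inSet W) :=
    { toFunctor := ObjectProperty.lift _ z.toFunctor hz
      w := z.w }
  let G : overCat U' ⥤ᵇ fp y (AlgSt.subIncl 𝒳 (inSet W)) :=
    fpLift (F := y) (G := AlgSt.subIncl 𝒳 (inSet W)) (AlgSt.overMap u) L (Iso.refl z)
  have hG : IsEquivOver G := by
    refine EqvData.isEquivOver ⟨⟨fun {a b} m => ?_⟩, ⟨fun {a b} f g hfg => ?_⟩, fun η => ?_⟩
    · have hw : m.hom.fst.left ≫ b.hom ≫ u = a.hom ≫ u := Over.w m.hom.fst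
      let f : a ⟶ b := Over.homMk m.hom.fst.left ((cancel_mono u).1 (by rw [Category.assoc]; exact hw))
      have hf : (AlgSt.overMap u).map f = m.hom.fst := Over.OverMorphism.ext rfl
      refine ⟨f, fp_hom_ext hf (ObjectProperty.hom_ext _ ?_)⟩
      have w := m.hom.w
      change y.map ((AlgSt.overMap u).map f) = m.hom.snd.hom
      rw [hf]
      exact (Category.comp_id _).symm.trans (w.trans (Category.id_comp _))
    · exact Over.OverMorphism.ext (congrArg (fun m => m.hom.fst.left) hfg)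
    · let a := η.obj.fst
      have ha : ∀ k, a.hom.left k ∈ O := (inSet_chart_iff h y a W).1 (inSet_of_hom η.obj.iso.hom η.obj.snd.property)
      have hr : Set.range a.hom.left ⊆ Set.range O.ι := by
        rintro _ ⟨k, rfl⟩
        rw [Scheme.Opens.range_ι]
        exact ha k
      let v : a.left ⟶ U' := Over.homMk (IsOpenImmersion.lift O.ι a.hom.left hr)
        (by simp [U', IsOpenImmersion.lift_fac_assoc])
      have hv : v ≫ u = a.hom := Over.OverMorphism.ext (IsOpenImmersion.lift_fac _ _ _)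
      let i : (AlgSt.overMap u).obj (Over.mk v) ≅ a := Over.isoMk (Iso.refl _) (by
        show 𝟙 _ ≫ a.hom = v ≫ u
        rw [Category.id_comp, hv])
      let j : L.obj (Over.mk v) ≅ η.obj.snd :=
        (ObjectProperty.ι (inSet W)).preimageIso (y.toFunctor.mapIso i ≪≫ η.obj.iso)
      let e : G.obj (Over.mk v) ≅ η := fpIsoMk i j (by
        show y.map i.hom ≫ η.obj.iso.hom = 𝟙 _ ≫ (ObjectProperty.ι (inSet W)).map j.hom
        exact ((Category.id_comp _).trans ((ObjectProperty.ι (inSet W)).map_preimage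
          (X := L.obj (Over.mk v)) (Y := η.obj.snd) (y.toFunctor.mapIso i ≪≫ η.obj.iso).hom)).symm)
      exact ⟨Over.mk v, e, (vert_iff (fp y (AlgSt.subIncl 𝒳 (inSet W))).p _).2 ⟨rfl, rfl, rfl⟩⟩
  refine ⟨⟨_, AlgSp.IsAlgSpace.yon_obj U'⟩, BasedFunctor.comp (AlgSt.toOverCat U') G,
    isEquivOver_comp (isEquivOver_toOverCat U') hG, ?_⟩
  change AlgSp.RepWith @IsOpenImmersion (AlgSt.spMapOfOver (BasedFunctor.comp (AlgSt.toOverCat U') (AlgSt.overMap u)))
  rw [spMapOfOver_overMap, spMapOfOver_toOverCat, Category.id_comp]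
  exact (AlgSp.repWith_yon_map_iff @IsOpenImmersion u).2 (inferInstanceAs (IsOpenImmersion O.ι))

/-- An open set of points cuts out an open substack. -/
theorem isOpenSubstack_inSet (h𝒳 : AlgSt.IsAlgStack Scheme.fppfPrecoverage 𝒳)
    {W : Set (AlgSt.Points 𝒳)} (hW : IsOpen W) :
    AlgSt.IsOpenSubstack 𝒳 (inSet W) Scheme.fppfPrecoverage :=
  ⟨isClosedUnderIso_inSet W,
    isAlgStack_of_rep1 (fibGrpd_fullSub h𝒳.isStack.1 fun _ _ φ h => inSet_of_hom φ h) h𝒳 _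
      (repByAlgSp1_of_with (isOpenImm_subIncl_inSet h𝒳 hW)),
    isOpenImm_subIncl_inSet h𝒳 hW⟩

theorem range_subIncl_inSet (W : Set (AlgSt.Points 𝒳)) (h : IsFibGrpd 𝒳.p) :
    Set.range (AlgSt.Points.map (AlgSt.subIncl 𝒳 (inSet W))) = W := by
  ext z
  constructor
  · rintro ⟨w, rfl⟩
    obtain ⟨p, rfl⟩ := AlgSt.Points.mk_surjective w
    exact p.obj.property (mk_mem_ptsOf (p.map (AlgSt.subIncl 𝒳 (inSet W))))
  · intro hz
    obtain ⟨p, rfl⟩ := AlgSt.Points.mk_surjective z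
    obtain ⟨x, i, hi⟩ := exists_classifying h p.obj p.lies
    have hp : inSet W p.obj := inSet_of_hom i.inv ((inSet_chart_iff h x _ W).2 fun k => by
      have : AlgSt.Points.ofChart x k ∈ ptsOf (x.obj (Over.mk (𝟙 _))) := by
        rw [ptsOf_chart h]; exact ⟨k, ⟨k, rfl⟩, rfl⟩
      obtain ⟨q, hq, ⟨φ⟩⟩ := this
      show AlgSt.Points.ofChart x k ∈ W
      rw [← hq]
      have : AlgSt.Points.mk q = AlgSt.Points.mk p := AlgSt.Points.sound ⟨q, 𝟙 _, φ ≫ i.hom, trivial⟩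
      rw [this]; exact hz)
    exact ⟨AlgSt.Points.mk { K := p.K, str := p.str, obj := ⟨p.obj, hp⟩, lies := p.lies }, rfl⟩

end Groth.Agent.Stk19b
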