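import Groth.Agent.Stk19b.OpenSub.Basic

/-! Open substacks are cut out by their points. -/

set_option autoImplicit false
set_option backward.isDefEq.respectTransparency false
set_option backward.isDefEq.respectTransparency.types false

universe u

open CategoryTheory CategoryTheory.Limits AlgebraicGeometry Opposite FibCat Groth.Agent.Stk19

namespace Groth.Agent.Stk19b

variable {S : Scheme.{u}} {𝒳 𝒴 : AlgSt.Cat S}

/-- An open immersion restricted to a scheme is an open subscheme, read on points. -/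
theorem exists_chartLift {j : 𝒴 ⥤ᵇ 𝒳} (hj : AlgSt.IsOpenImm j) (h𝒴 : IsFibGrpd 𝒴.p) (h𝒳 : IsFibGrpd 𝒳.p)
    {U : Over S} (y : overCat U ⥤ᵇ 𝒳) :
    ∃ (U' : Over S) (u : U' ⟶ U) (L : overCat U' ⥤ᵇ 𝒴), IsOpenImmersion u.left ∧
      Nonempty (BasedFunctor.comp (AlgSt.overMap u) y ≅ BasedFunctor.comp L j) ∧
      ∀ t, AlgSt.Points.ofChart y t ∈ Set.range (AlgSt.Points.map j) ↔ t ∈ Set.range u.left := by
  obtain ⟨F, e, he, ha⟩ := hj U y
  obtain ⟨W₀, ⟨σ⟩⟩ := scheme_of_repWith _ ha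
  obtain ⟨u, hu⟩ := (AlgSp.yon S).map_surjective (σ.hom ≫ AlgSt.spMapOfOver (BasedFunctor.comp e (fpFst y j)))
  have hoi : IsOpenImmersion u.left := by
    refine (AlgSp.repWith_yon_map_iff @IsOpenImmersion u).1 ?_
    rw [hu]
    exact (MorphismProperty.cancel_left_of_respectsIso _ σ.hom _).2 ha
  let e' : overCat W₀ ⥤ᵇ fp y j :=
    BasedFunctor.comp (AlgSt.ofOverCat W₀) (BasedFunctor.comp (AlgSt.ofSpMap σ.hom) e)
  have he' : IsEquivOver e' :=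
    isEquivOver_comp (isEquivOver_ofOverCat W₀) (isEquivOver_comp (isEquivOver_ofSpMap σ.hom) he)
  obtain ⟨i₀⟩ := spMapOfOver_iso (BasedFunctor.comp e (fpFst y j))
  have i : BasedFunctor.comp e' (fpFst y j) ≅ AlgSt.overMap u :=
    (Stk.restr (BasedFunctor.comp (AlgSt.ofOverCat W₀) (AlgSt.ofSpMap σ.hom)) _).mapIso i₀ ≪≫ eqToIso (by
      rw [show AlgSt.overMap u =
        BasedFunctor.comp (BasedFunctor.comp (AlgSt.ofOverCat W₀) (AlgSt.ofSpMap ((AlgSp.yon S).map u)))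
          (AlgSt.toOverCat U) from rfl, hu]
      rfl)
  have k : BasedFunctor.comp (AlgSt.overMap u) y ≅ BasedFunctor.comp (BasedFunctor.comp e' (fpSnd y j)) j :=
    (postB _ y).mapIso i.symm ≪≫ (Stk.restr e' _).mapIso (fpIso y j)
  refine ⟨W₀, u, BasedFunctor.comp e' (fpSnd y j), hoi, ⟨k⟩, fun t => ⟨fun ⟨z, hz⟩ => ?_, ?_⟩⟩
  · obtain ⟨v, hv, -⟩ := exists_points_fp h𝒴 h𝒳 (isFibGrpd_overCat U) j y
      (AlgSt.Points.ofChart (BasedFunctor.id _) t) z (by rw [← ofChart_eq_map]; exact hz.symm)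
    obtain ⟨v', rfl⟩ := (points_bijective_of_equiv he').2 v
    obtain ⟨w, rfl⟩ := (ofChart_id_bijective W₀).2 v'
    refine ⟨w, (ofChart_id_bijective U).1 ?_⟩
    rw [← hv, ← ofChart_overMap, show BasedFunctor.comp (AlgSt.overMap u) (BasedFunctor.id _) = AlgSt.overMap u from rfl,
      ofChart_congr i.symm, ← points_map_comp]
    rfl
  · rintro ⟨w, rfl⟩
    refine ⟨AlgSt.Points.ofChart (BasedFunctor.comp e' (fpSnd y j)) w, ?_⟩
    rw [map_ofChart, ← ofChart_congr k, ofChart_overMap]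

/-- The range of an open immersion is open. -/
theorem isOpen_range_openImm {j : 𝒴 ⥤ᵇ 𝒳} (hj : AlgSt.IsOpenImm j) (h𝒴 : IsFibGrpd 𝒴.p) (h𝒳 : IsFibGrpd 𝒳.p) :
    IsOpen (Set.range (AlgSt.Points.map j)) :=
  AlgSt.Points.isOpen_iff.2 fun U x _ => by
    obtain ⟨U', u, L, hu, -, hiff⟩ := exists_chartLift hj h𝒴 h𝒳 x
    rw [show AlgSt.Points.ofChart x ⁻¹' Set.range (AlgSt.Points.map j) = Set.range u.left from Set.ext hiff]
    exact u.left.isOpenEmbedding.isOpen_range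

/-- Every object with points in the range of an open immersion comes from its source. -/
theorem exists_obj_of_ptsOf_subset {j : 𝒴 ⥤ᵇ 𝒳} (hj : AlgSt.IsOpenImm j) (h𝒴 : IsFibGrpd 𝒴.p) (h𝒳 : IsFibGrpd 𝒳.p)
    {y : 𝒳.obj} (hy : ptsOf y ⊆ Set.range (AlgSt.Points.map j)) : ∃ w, Nonempty (j.obj w ≅ y) := by
  obtain ⟨x, i, -⟩ := exists_classifying h𝒳 y rfl
  obtain ⟨U', u, L, hu, ⟨k⟩, hiff⟩ := exists_chartLift hj h𝒴 h𝒳 x
  have hall : ∀ t, t ∈ Set.range u.left := fun t => (hiff t).1 (hy (ptsOf_mono i.hom (by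
    rw [ptsOf_chart h𝒳]; exact ⟨t, ⟨t, rfl⟩, rfl⟩)))
  have : Surjective u.left := ⟨hall⟩
  have : Epi u.left.base := (TopCat.epi_iff_surjective _).2 hall
  have : IsIso u.left := IsOpenImmersion.isIso u.left
  have : IsIso u := by
    have : IsIso ((Over.forget S).map u) := this
    exact isIso_of_reflects_iso u (Over.forget S)
  let t : (AlgSt.overMap u).obj (Over.mk (inv u)) ≅ Over.mk (𝟙 _) := Over.isoMk (Iso.refl _) (by
    show 𝟙 _ ≫ 𝟙 _ = inv u ≫ u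
    simp)
  exact ⟨L.obj (Over.mk (inv u)), ⟨(appIso k (Over.mk (inv u))).symm ≪≫ x.toFunctor.mapIso t ≪≫ i⟩⟩

/-- Predicates of open substacks are stable under pullback. -/
theorem openSub_of_hom {Q : 𝒳.obj → Prop} (hQ : ObjectProperty.IsClosedUnderIsomorphisms Q)
    (h : IsFibGrpd (AlgSt.fullSub 𝒳 Q).p) (h𝒳 : IsFibGrpd 𝒳.p) {b a : 𝒳.obj} (φ : b ⟶ a) (ha : Q a) : Q b := by
  obtain ⟨b', ψ, e, hψ⟩ := fibGrpd_lift h (⟨a, ha⟩ : ObjectProperty.FullSubcategory Q) (𝒳.p.map φ)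
  obtain ⟨χ, ⟨hχ, -⟩, -⟩ := fibGrpd_fac h𝒳 φ ψ.hom (eqToHom e) hψ.symm
  have : IsIso (𝒳.p.map χ) := by rw [hχ]; infer_instance
  have := fibGrpd_isIso h𝒳 χ
  exact hQ.of_iso (asIso χ) b'.property

/-- An open substack is cut out by its points. -/
theorem openSub_iff (h𝒳 : AlgSt.IsAlgStack Scheme.fppfPrecoverage 𝒳) {Q : 𝒳.obj → Prop}
    (hQ : AlgSt.IsOpenSubstack 𝒳 Q Scheme.fppfPrecoverage) (y : 𝒳.obj) :
    Q y ↔ inSet (Set.range (AlgSt.Points.map (AlgSt.subIncl 𝒳 Q))) y := by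
  constructor
  · rintro hy z ⟨p, rfl, ⟨φ⟩⟩
    exact ⟨AlgSt.Points.mk
      { K := p.K
        str := p.str
        obj := ⟨p.obj, openSub_of_hom hQ.1 hQ.2.1.isStack.1 h𝒳.isStack.1 φ hy⟩
        lies := p.lies }, rfl⟩
  · intro hy
    obtain ⟨w, ⟨e⟩⟩ := exists_obj_of_ptsOf_subset hQ.2.2 hQ.2.1.isStack.1 h𝒳.isStack.1 hy
    exact hQ.1.of_iso e w.property

theorem isOpen_range_openSub (h𝒳 : AlgSt.IsAlgStack Scheme.fppfPrecoverage 𝒳) {Q : 𝒳.obj → Prop}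
    (hQ : AlgSt.IsOpenSubstack 𝒳 Q Scheme.fppfPrecoverage) :
    IsOpen (Set.range (AlgSt.Points.map (AlgSt.subIncl 𝒳 Q))) :=
  isOpen_range_openImm hQ.2.2 hQ.2.1.isStack.1 h𝒳.isStack.1

theorem openSub_eq (h𝒳 : AlgSt.IsAlgStack Scheme.fppfPrecoverage 𝒳) {Q : 𝒳.obj → Prop}
    (hQ : AlgSt.IsOpenSubstack 𝒳 Q Scheme.fppfPrecoverage) :
    Q = inSet (Set.range (AlgSt.Points.map (AlgSt.subIncl 𝒳 Q))) :=
  funext fun y => propext (openSub_iff h𝒳 hQ y)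

theorem openSub_le_iff (h𝒳 : AlgSt.IsAlgStack Scheme.fppfPrecoverage 𝒳) {Q Q' : 𝒳.obj → Prop}
    (hQ : AlgSt.IsOpenSubstack 𝒳 Q Scheme.fppfPrecoverage) (hQ' : AlgSt.IsOpenSubstack 𝒳 Q' Scheme.fppfPrecoverage) :
    (∀ y, Q y → Q' y) ↔
      Set.range (AlgSt.Points.map (AlgSt.subIncl 𝒳 Q)) ⊆ Set.range (AlgSt.Points.map (AlgSt.subIncl 𝒳 Q')) := by
  constructor
  · rintro h _ ⟨z, rfl⟩
    obtain ⟨p, rfl⟩ := AlgSt.Points.mk_surjective z
    exact ⟨AlgSt.Points.mk { K := p.K, str := p.str, obj := ⟨p.obj.obj, h _ p.obj.property⟩, lies := p.lies }, rfl⟩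
  · exact fun h y hy => (openSub_iff h𝒳 hQ' y).2 (((openSub_iff h𝒳 hQ y).1 hy).trans h)

theorem points_map_subIncl_injective (h𝒳 : IsFibGrpd 𝒳.p) {Q : 𝒳.obj → Prop}
    (hQ : ∀ ⦃a b : 𝒳.obj⦄ (_ : a ⟶ b), Q b → Q a) :
    Function.Injective (AlgSt.Points.map (AlgSt.subIncl 𝒳 Q)) := by
  intro z w h
  obtain ⟨p, rfl⟩ := AlgSt.Points.mk_surjective z
  obtain ⟨q, rfl⟩ := AlgSt.Points.mk_surjective w
  rw [AlgSt.Points.map_mk, AlgSt.Points.map_mk, points_mk_eq_iff h𝒳] at h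
  obtain ⟨r, a, b, -⟩ := h
  exact AlgSt.Points.sound ⟨{ K := r.K, str := r.str, lies := r.lies, obj := ⟨r.obj, hQ a p.obj.property⟩ },
    ObjectProperty.homMk a, ObjectProperty.homMk b, trivial⟩

/-- The points of a value of a functor come from its source. -/
theorem ptsOf_obj_subset (h𝒴 : IsFibGrpd 𝒴.p) (h𝒳 : IsFibGrpd 𝒳.p) (f : 𝒴 ⥤ᵇ 𝒳) (v : 𝒴.obj) :
    ptsOf (f.obj v) ⊆ Set.range (AlgSt.Points.map f) := by
  rintro _ ⟨p, rfl, ⟨φ⟩⟩
  obtain ⟨b, ψ, e, hψ⟩ := fibGrpd_lift h𝒴 v (𝒳.p.map φ ≫ eqToHom (f.w_obj v))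
  obtain ⟨χ, -, -⟩ := fibGrpd_fac h𝒳 (f.map ψ) φ (eqToHom ((f.w_obj b).trans e).symm) (by
    rw [based_map f ψ, hψ]
    simp)
  exact ⟨AlgSt.Points.mk { K := p.K, str := p.str, obj := b, lies := e.trans p.lies },
    (AlgSt.Points.sound ⟨p, 𝟙 _, χ, trivial⟩).symm⟩

/-- A property of a composite with a fully faithful functor passes to the first functor. -/
theorem repByAlgSpWith_of_comp_ff {P : MorphismProperty (AlgSp.Sp S)} {𝒵 : AlgSt.Cat S} (g : 𝒵 ⥤ᵇ 𝒴) (i : 𝒴 ⥤ᵇ 𝒳)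
    [i.toFunctor.Full] [i.toFunctor.Faithful] (h : AlgSt.RepByAlgSpWith P (BasedFunctor.comp g i)) :
    AlgSt.RepByAlgSpWith P g := fun U y =>
  witness_transfer'
    (E := fpMap (F := y) (G := g) (F' := BasedFunctor.comp y i) (G' := BasedFunctor.comp g i)
      (BasedFunctor.id _) (BasedFunctor.id _) i (Iso.refl _) (Iso.refl _))
    (isEquivOver_fpMap _ _ _ _ _ (isEquivOver_id _) (isEquivOver_id _)) (Iso.refl _) (h U (BasedFunctor.comp y i))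

end Groth.Agent.Stk19b
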