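import Groth.Agent.Stk19b.OpenSub.Range
import Groth.Agent.Stk19.AlgSt.Over
import Groth.Agent.Stk19.Glue
import Groth.Agent.AlgSpLib.SheafCoprod
import Groth.Agent.AlgSpLib.OpenCoverScheme

/-! A stack with an open cover by algebraic spaces is an algebraic space. -/

set_option autoImplicit false
set_option backward.isDefEq.respectTransparency false
set_option backward.isDefEq.respectTransparency.types false

universe u

open CategoryTheory CategoryTheory.Limits AlgebraicGeometry Opposite FibCat Groth.Agent.Stk19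

namespace Groth.Agent.Stk19b

variable {S : Scheme.{u}} {𝒳 : AlgSt.Cat S}

/-- A stack covered by open substacks fibred in setoids is fibred in setoids. -/
theorem setoid_of_cover (h : AlgSt.IsAlgStack Scheme.fppfPrecoverage 𝒳) {κ : Type u}
    (T : κ → Set (AlgSt.Points 𝒳)) (hT : ∀ i, IsOpen (T i)) (hcov : ∀ z, ∃ i, z ∈ T i)
    (hs : ∀ i, IsFibSetoid (AlgSt.fullSub 𝒳 (inSet (T i))).p) : IsFibSetoid 𝒳.p := by
  have hg := h.isStack.1
  refine ⟨hg, fun U => (thin_fiber_iff hg U).2 fun t φ _ hφ => ?_⟩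
  obtain ⟨x, e, he⟩ := exists_classifying hg t rfl
  let O : κ → (𝒳.p.obj t).left.Opens := fun i =>
    ⟨AlgSt.Points.ofChart x ⁻¹' T i, (hT i).preimage (continuous_ofChart h x)⟩
  let V : κ → Over S := fun i => Over.mk ((O i).ι ≫ (𝒳.p.obj t).hom)
  let c : ∀ i, V i ⟶ 𝒳.p.obj t := fun i => Over.homMk (O i).ι
  have : ∀ i, Flat (c i).left := fun i => inferInstanceAs (Flat (O i).ι)
  have : ∀ i, LocallyOfFinitePresentation (c i).left := fun i =>
    inferInstanceAs (LocallyOfFinitePresentation (O i).ι)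
  refine aut_eq_id_of_local (AlgSp.J S) ⟨hg, fun {U} R hR =>
      (have : (Stk.resSieve R 𝒳).IsEquivalence := h.isStack.2 R hR; ⟨inferInstance, inferInstance⟩)⟩ φ hφ
    (AlgSpLib.ofArrows_mem_J (Z := 𝒳.p.obj t) c fun z => ?_) fun V' f hf z ν hν φ' h1 _ => ?_
  · obtain ⟨i, hi⟩ := hcov (AlgSt.Points.ofChart x z)
    exact ⟨i, ⟨z, hi⟩, rfl⟩
  · obtain ⟨_, g, _, hi, rfl⟩ := hf
    obtain ⟨i⟩ := hi
    obtain ⟨χ, -, -⟩ := fibGrpd_fac hg (x.map (toId (Over.mk (g ≫ c i))) ≫ e.hom) ν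
      (eqToHom (IsHomLift.domain_eq 𝒳.p (g ≫ c i) ν) ≫ eqToHom (x.w_obj (Over.mk (g ≫ c i))).symm) (by
        rw [IsHomLift.fac' 𝒳.p (g ≫ c i) ν, 𝒳.p.map_comp, based_map x]
        have := map_eq_of_vert 𝒳.p (R := 𝒳.p.obj t) e.hom
        rw [this]
        simp)
    have hz : inSet (T i) z := inSet_of_hom χ ((inSet_chart_iff hg x _ _).2 fun k => (g.left k).2)
    have hz' := (thin_fiber_iff (hs i).1 _).1 ((hs i).2 _)
      (⟨z, hz⟩ : ObjectProperty.FullSubcategory (inSet (T i))) (ObjectProperty.homMk φ') rfl h1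
    exact congrArg (fun m => m.hom) hz'

/-- Sections in an open subspace, read in an equivalent category. -/
theorem mem_openSubspace_iff (hg : IsFibGrpd 𝒳.p) {F : AlgSp.Sp S} (E : AlgSt.ofSp F ⥤ᵇ 𝒳)
    (T : Set (AlgSt.Points 𝒳)) (B : Over S) (s : F.obj.obj (op B)) :
    inSet T (E.obj ⟨B, s⟩) ↔
      s ∈ (AlgSpLib.openSubfunctor F {z | AlgSt.Points.map E (stPt z) ∈ T}).obj (op B) := by
  let g : (AlgSp.yon S).obj B ⟶ F := (GrothendieckTopology.uliftYonedaEquiv.{u + 1} (AlgSp.J S)).symm s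
  let x : overCat B ⥤ᵇ 𝒳 := BasedFunctor.comp (BasedFunctor.comp (AlgSt.ofOverCat B) (AlgSt.ofSpMap g)) E
  have e : x.obj (Over.mk (𝟙 B)) = E.obj ⟨B, s⟩ := by
    show E.obj ⟨B, g.hom.app (op B) (ULift.up (𝟙 B))⟩ = _
    congr 2
    exact (GrothendieckTopology.uliftYonedaEquiv.{u + 1} (AlgSp.J S)).apply_symm_apply s
  rw [← e, inSet_chart_iff hg]
  rfl

theorem exists_sheaf_of_cover (h : AlgSt.IsAlgStack Scheme.fppfPrecoverage 𝒳) {κ : Type u}
    (T : κ → Set (AlgSt.Points 𝒳)) (hT : ∀ i, IsOpen (T i)) (hcov : ∀ z, ∃ i, z ∈ T i)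
    (hs : ∀ i, IsFibSetoid (AlgSt.fullSub 𝒳 (inSet (T i))).p) :
    ∃ (F : AlgSp.Sp S) (E : AlgSt.ofSp F ⥤ᵇ 𝒳) (W : κ → Set (AlgSp.Points F)), IsEquivOver E ∧
      (∀ i, IsOpen (W i)) ∧ (∀ z, ∃ i, z ∈ W i) ∧
      ∀ i, ∃ G : AlgSt.ofSp (AlgSpLib.openSubspace F (W i)) ⥤ᵇ AlgSt.fullSub 𝒳 (inSet (T i)), IsEquivOver G := by
  have hg := h.isStack.1
  obtain ⟨P, E₀, hE₀⟩ := exists_psh_of_setoid (setoid_of_cover h T hT hcov hs)
  have hP : Presheaf.IsSheaf (AlgSp.J S) P := by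
    rw [isSheaf_iff_isSheaf_of_type]
    exact (isStack_ofPsh_iff _).1 ((isStack_iff_of_equiv _ hE₀).1 h.isStack)
  let F : AlgSp.Sp S := ⟨P, hP⟩
  obtain ⟨E, hE, -, -⟩ := exists_inverse hE₀
  let E : AlgSt.ofSp F ⥤ᵇ 𝒳 := E
  have hE : IsEquivOver E := hE
  have hEd := EqvData.of_isEquivOver hE
  have := hEd.full
  have := hEd.faithful
  let W : κ → Set (AlgSp.Points F) := fun i => {z | AlgSt.Points.map E (stPt z) ∈ T i}
  have hW : ∀ i, IsOpen (W i) := fun i => AlgSp.Points.isOpen_iff.2 fun B g =>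
    (hT i).preimage (continuous_ofChart h (BasedFunctor.comp (BasedFunctor.comp (AlgSt.ofOverCat B) (AlgSt.ofSpMap g)) E))
  have hF : ∀ i, ∃ G : AlgSt.ofSp (AlgSpLib.openSubspace F (W i)) ⥤ᵇ AlgSt.fullSub 𝒳 (inSet (T i)),
      IsEquivOver G := fun i => by
    let G : AlgSt.ofSp (AlgSpLib.openSubspace F (W i)) ⥤ᵇ 𝒳 :=
      BasedFunctor.comp (AlgSt.ofSpMap (AlgSpLib.openSubspaceι F (W i))) E
    let G' : AlgSt.ofSp (AlgSpLib.openSubspace F (W i)) ⥤ᵇ AlgSt.fullSub 𝒳 (inSet (T i)) :=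
      { toFunctor := ObjectProperty.lift _ G.toFunctor fun a =>
          (mem_openSubspace_iff hg E (T i) a.base a.sec.1).2 a.sec.2
        w := G.w }
    have hG' : IsEquivOver G' := by
      refine EqvData.isEquivOver ⟨⟨fun {a b} m => ?_⟩, ⟨fun {a b} f f' hff => ?_⟩, fun η => ?_⟩
      · obtain ⟨k, hk⟩ := E.toFunctor.map_surjective
          (X := (AlgSt.ofSpMap (AlgSpLib.openSubspaceι F (W i))).obj a)
          (Y := (AlgSt.ofSpMap (AlgSpLib.openSubspaceι F (W i))).obj b) m.hom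
        exact ⟨⟨k.hom, Subtype.ext k.map_sec⟩, ObjectProperty.hom_ext _ hk⟩
      · have := E.toFunctor.map_injective (congrArg (fun m => m.hom) hff :)
        exact Stk.EltObj.Hom.ext (congrArg Stk.EltObj.Hom.hom this :)
      · obtain ⟨⟨B, s⟩, e, he⟩ := hEd.surj η.obj
        have hs : inSet (T i) (E.obj ⟨B, s⟩) := inSet_of_hom e.hom η.property
        let a : (AlgSt.ofSp (AlgSpLib.openSubspace F (W i))).obj :=
          ⟨B, ⟨s, (mem_openSubspace_iff hg E (T i) B s).1 hs⟩⟩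
        let j : G'.obj a ≅ η := ObjectProperty.isoMk _ e
        exact ⟨a, j, (BasedFunctor.isHomLift_iff (AlgSt.subIncl 𝒳 (inSet (T i))) _ _).1 he⟩
    exact ⟨G', hG'⟩
  exact ⟨F, E, W, hE, hW, fun z => hcov (AlgSt.Points.map E (stPt z)), hF⟩

/-- A stack covered by open substacks that are algebraic spaces is an algebraic space. -/
theorem repByAlgSp_of_cover (h : AlgSt.IsAlgStack Scheme.fppfPrecoverage 𝒳) {κ : Type u}
    (T : κ → Set (AlgSt.Points 𝒳)) (hT : ∀ i, IsOpen (T i)) (hcov : ∀ z, ∃ i, z ∈ T i)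
    (hsp : ∀ i, AlgSt.RepByAlgSp (AlgSt.fullSub 𝒳 (inSet (T i)))) : AlgSt.RepByAlgSp 𝒳 := by
  obtain ⟨F, E, W, hE, hW, hc, hG⟩ := exists_sheaf_of_cover h T hT hcov fun i => setoid_of_repByAlgSp (hsp i)
  have hF : ∀ i, AlgSp.IsAlgSpace (AlgSpLib.openSubspace F (W i)) := fun i => by
    obtain ⟨G, hG⟩ := hG i
    exact (AlgSp.isAlgSpaceP_obj_iff _).1 ((repByAlgSp_ofPsh_iff _).1 (repByAlgSp_of_equiv' hG (hsp i)))
  refine repByAlgSp_of_equiv hE (repByAlgSp_ofSp ⟨F, AlgSpLib.isAlgSpace_of_open_family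
    (fun i => AlgSpLib.openSubspaceι F (W i)) hF (fun i => AlgSpLib.repWith_openSubspaceι F (hW i)) fun z => ?_⟩)
  obtain ⟨i, hi⟩ := hc z
  exact ⟨i, by rw [AlgSpLib.range_openSubspaceι]; exact hi⟩

/-- A stack covered by open substacks that are schemes is a scheme. -/
theorem isRepresentable_of_cover (h : AlgSt.IsAlgStack Scheme.fppfPrecoverage 𝒳) {κ : Type u}
    (T : κ → Set (AlgSt.Points 𝒳)) (hT : ∀ i, IsOpen (T i)) (hcov : ∀ z, ∃ i, z ∈ T i)
    (hsch : ∀ i, FibCat.IsRepresentable (AlgSt.fullSub 𝒳 (inSet (T i)))) : FibCat.IsRepresentable 𝒳 := by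
  have hs : ∀ i, IsFibSetoid (AlgSt.fullSub 𝒳 (inSet (T i))).p := fun i => by
    obtain ⟨U, Φ, hΦ⟩ := hsch i
    exact (setoid_iff_of_equiv hΦ).2 (setoid_overCat U)
  obtain ⟨F, E, W, hE, hW, hc, hG⟩ := exists_sheaf_of_cover h T hT hcov hs
  choose U Φ hΦ using hsch
  have hiso : ∀ i, ∃ f : (AlgSp.yon S).obj (U i) ⟶ F, AlgSp.RepWith @IsOpenImmersion f ∧
      Set.range (AlgSp.Points.map f) = W i := fun i => by
    obtain ⟨G, hG⟩ := hG i
    obtain ⟨Ψ, hΨ, -, -⟩ := exists_inverse hG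
    obtain ⟨Φ', hΦ', -, -⟩ := exists_inverse (hΦ i)
    let a := spHom (BasedFunctor.comp (AlgSt.toOverCat (U i)) (BasedFunctor.comp Φ' Ψ))
    have : IsIso a := isIso_spHom (isEquivOver_comp (isEquivOver_toOverCat _) (isEquivOver_comp hΦ' hΨ))
    refine ⟨a ≫ AlgSpLib.openSubspaceι F (W i),
      (MorphismProperty.cancel_left_of_respectsIso _ a _).2 (AlgSpLib.repWith_openSubspaceι F (hW i)), ?_⟩
    rw [show AlgSp.Points.map (a ≫ AlgSpLib.openSubspaceι F (W i)) =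
      AlgSp.Points.map (AlgSpLib.openSubspaceι F (W i)) ∘ AlgSp.Points.map a from
        funext fun x => AlgSp.Points.map_comp _ _ _, Set.range_comp,
      Function.Surjective.range_eq (fun y => ⟨AlgSp.Points.map (inv a) y, ?_⟩), Set.image_univ,
      AlgSpLib.range_openSubspaceι]
    rw [← AlgSp.Points.map_comp, IsIso.inv_hom_id, AlgSp.Points.map_id]
  choose f hf hr using hiso
  obtain ⟨V, ⟨σ⟩⟩ := AlgSpLib.exists_iso_yon_of_openCover f hf fun z => by
    obtain ⟨i, hi⟩ := hc z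
    exact ⟨i, (hr i).symm ▸ hi⟩
  exact isRepresentable_of_equiv'
    (isEquivOver_comp (isEquivOver_ofSpMap σ.hom) hE)
    (isRepresentable_of_equiv (isEquivOver_toOverCat V) (isRepresentable_overCat V))

end Groth.Agent.Stk19b
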