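import Groth.Agent.Stk19b.OpenSub.Range
import Groth.Agent.Stk19.AlgSt.LocQThm

/-! The largest open substack on which a morphism has a source-local property. -/

set_option autoImplicit false
set_option backward.isDefEq.respectTransparency false
set_option backward.isDefEq.respectTransparency.types false

universe u

open CategoryTheory CategoryTheory.Limits AlgebraicGeometry Opposite FibCat Groth.Agent.Stk19

namespace Groth.Agent.Stk19b

variable {S : Scheme.{u}} {𝒳 𝒴 : AlgSt.Cat S}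

local notation "AS" => AlgSt.IsAlgStack Scheme.fppfPrecoverage
local notation "Sm" => AlgSt.RepByAlgSpWith (AlgSp.LocP @Smooth)

/-- The inclusion of nested open substacks. -/
def subLE {T T' : Set (AlgSt.Points 𝒳)} (h : T ⊆ T') :
    AlgSt.fullSub 𝒳 (inSet T) ⥤ᵇ AlgSt.fullSub 𝒳 (inSet T') where
  toFunctor := ObjectProperty.ιOfLE fun _ hy => hy.trans h
  w := rfl

theorem smooth_overMap {W V : Over S} (u : W ⟶ V) [Smooth u.left] : Sm (AlgSt.overMap u) :=
  with_equiv_comp (isEquivOver_ofOverCat W) (with_comp_equiv (isEquivOver_toOverCat V)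
    (repByAlgSpWith_ofSpMap (pbStable_locP AlgSpLib.etLocal_smooth)
      (V := ⟨_, AlgSp.IsAlgSpace.yon_obj W⟩) (Z := ⟨_, AlgSp.IsAlgSpace.yon_obj V⟩) _ (smooth_yon u)))

/-- A source-local property of every restriction to an open cover. -/
theorem pcov_of_cover {Q : MorphismProperty Scheme.{u}} [Q.IsStableUnderBaseChange]
    [IsZariskiLocalAtSource Q] (hQ : AlgSpLib.EtLocal Q) (h𝒳 : AS 𝒳) (f : 𝒳 ⥤ᵇ 𝒴) {ι : Type*}
    (T : ι → Set (AlgSt.Points 𝒳)) (hT : ∀ i, IsOpen (T i)) {T' : Set (AlgSt.Points 𝒳)}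
    (hle : ∀ i, T i ⊆ T') (hcov : ∀ z ∈ T', ∃ i, z ∈ T i) {V : Over S} (y : overCat V ⥤ᵇ 𝒴)
    (h : ∀ i, Good (AlgSp.LocP Q) (BasedFunctor.comp (AlgSt.subIncl 𝒳 (inSet (T i))) f) y) :
    Good (AlgSp.LocP Q) (BasedFunctor.comp (AlgSt.subIncl 𝒳 (inSet T')) f) y := by
  intro W e k he a
  have hg := h𝒳.isStack.1
  let f' := BasedFunctor.comp (AlgSt.subIncl 𝒳 (inSet T')) f
  let c : overCat W ⥤ᵇ 𝒳 := BasedFunctor.comp (BasedFunctor.comp e (fpSnd y f')) (AlgSt.subIncl 𝒳 (inSet T'))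
  have hc : ∀ w, AlgSt.Points.ofChart c w ∈ T' := fun w => by
    have h1 : inSet T' (c.obj (Over.mk (𝟙 W))) := ((BasedFunctor.comp e (fpSnd y f')).obj (Over.mk (𝟙 W))).property
    exact (inSet_chart_iff hg c _ _).1 h1 w
  let O : ι → W.left.Opens := fun i => ⟨AlgSt.Points.ofChart c ⁻¹' T i, (hT i).preimage (continuous_ofChart h𝒳 c)⟩
  refine (locP_yon_iff hQ k).2 (IsZariskiLocalAtSource.of_openCover
    (P := Q) (Scheme.openCoverOfIsOpenCover _ O (TopologicalSpace.Opens.coe_inj.1 ?_)) fun i => ?_)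
  · ext w
    simp only [TopologicalSpace.Opens.coe_top, Set.mem_univ, iff_true]
    obtain ⟨i, hi⟩ := hcov _ (hc w)
    exact TopologicalSpace.Opens.mem_iSup.2 ⟨i, hi⟩
  let W' : Over S := Over.mk ((O i).ι ≫ W.hom)
  let u : W' ⟶ W := Over.homMk (O i).ι
  have : Smooth u.left := inferInstanceAs (Smooth (O i).ι)
  let fi := BasedFunctor.comp (AlgSt.subIncl 𝒳 (inSet (T i))) f
  let z := BasedFunctor.comp (AlgSt.overMap u) c
  let L : overCat W' ⥤ᵇ AlgSt.fullSub 𝒳 (inSet (T i)) :=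
    { toFunctor := ObjectProperty.lift _ z.toFunctor fun b => (inSet_chart_iff hg z b _).2 fun p => by
        rw [ofChart_overMap]
        exact (b.hom.left p).2
      w := z.w }
  let e' : overCat W' ⥤ᵇ fp y fi :=
    fpLift (BasedFunctor.comp (AlgSt.overMap u) (BasedFunctor.comp e (fpFst y f'))) L
      ((Stk.restr (BasedFunctor.comp (AlgSt.overMap u) e) _).mapIso (fpIso y f'))
  let J : fp y fi ⥤ᵇ fp y f' :=
    fpLift (fpFst y fi) (BasedFunctor.comp (fpSnd y fi) (subLE (hle i))) (fpIso y fi)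
  have : J.toFunctor.Full := ⟨fun {p q} m =>
    ⟨fpHom m.hom.fst (ObjectProperty.homMk m.hom.snd.hom) m.hom.w, fp_hom_ext rfl (ObjectProperty.hom_ext _ rfl)⟩⟩
  have : J.toFunctor.Faithful := ⟨fun {p q m m'} hm =>
    fp_hom_ext (congrArg (fun t => t.hom.fst) hm) (ObjectProperty.hom_ext _ (congrArg (fun t => t.hom.snd.hom) hm :))⟩
  have hJ : BasedFunctor.comp e' J = BasedFunctor.comp (AlgSt.overMap u) e := rfl
  have he' : Sm e' := repByAlgSpWith_of_comp_ff e' J (by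
    rw [hJ]
    exact repByAlgSpWith_comp_desc (respSrc_locP AlgSpLib.etLocal_smooth) (atlasDescent_locP AlgSpLib.etLocal_smooth)
      (compStable_locP AlgSpLib.etLocal_smooth) (isFibGrpd_overCat W') (isFibGrpd_overCat W) (smooth_overMap u) he)
  obtain ⟨j⟩ := overMap_comp u k
  exact (locP_yon_iff hQ (u ≫ k)).1 (h i W' e' (u ≫ k) he' ((Stk.restr (AlgSt.overMap u) _).mapIso a ≪≫ j))

/-- There is a largest open substack on which a morphism has a source-local property. -/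
theorem exists_largest {Q : MorphismProperty Scheme.{u}} [Q.IsStableUnderBaseChange]
    [IsZariskiLocalAtSource Q] (hQ : AlgSpLib.EtLocal Q) (hP : AlgSp.IsSmoothLocalST (AlgSp.LocP (S := S) Q))
    (h𝒳 : AS 𝒳) (h𝒴 : AS 𝒴) (f : 𝒳 ⥤ᵇ 𝒴) :
    ∃ T : Set (AlgSt.Points 𝒳), IsOpen T ∧
      AlgSt.LocQ (AlgSp.LocP Q) (BasedFunctor.comp (AlgSt.subIncl 𝒳 (inSet T)) f) ∧
      ∀ T' : Set (AlgSt.Points 𝒳), IsOpen T' →
        AlgSt.LocQ (AlgSp.LocP Q) (BasedFunctor.comp (AlgSt.subIncl 𝒳 (inSet T')) f) → T' ⊆ T := by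
  let ι := {T : Set (AlgSt.Points 𝒳) // IsOpen T ∧
    AlgSt.LocQ (AlgSp.LocP Q) (BasedFunctor.comp (AlgSt.subIncl 𝒳 (inSet T)) f)}
  let T : Set (AlgSt.Points 𝒳) := ⋃ i : ι, i.1
  have hT : IsOpen T := isOpen_iUnion fun i => i.2.1
  refine ⟨T, hT, ?_, fun T' h1 h2 => Set.subset_iUnion (fun i : ι => i.1) ⟨T', h1, h2⟩⟩
  obtain ⟨V, y, hy, hys⟩ := h𝒴.atlas
  exact locQ_of_good (isOpenSubstack_inSet h𝒳 hT).2.1 h𝒴 hy hys
    (pcov_of_cover hQ h𝒳 f (fun i : ι => i.1) (fun i => i.2.1) (Set.subset_iUnion fun i : ι => i.1)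
      (fun z hz => Set.mem_iUnion.1 hz) y
      fun i => good_of_locQ hP (isOpenSubstack_inSet h𝒳 i.2.1).2.1 h𝒴 i.2.2 hy)

end Groth.Agent.Stk19b
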