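import Groth.Agent.Stk19b.OpenSub.Locus
import Groth.Agent.Stk19b.UCDvr.Basic

/-! Restrictions of morphisms to open substacks, and smoothness on them. -/

set_option autoImplicit false
set_option linter.style.haveILetI false
set_option backward.isDefEq.respectTransparency false
set_option backward.isDefEq.respectTransparency.types false

universe u

open CategoryTheory CategoryTheory.Limits AlgebraicGeometry Opposite FibCat Groth.Agent.Stk19

namespace Groth.Agent.Stk19b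

variable {S : Scheme.{u}} {𝒳 𝒴 𝒲 : AlgSt.Cat S}

local notation "AS" => AlgSt.IsAlgStack Scheme.fppfPrecoverage
local notation "Sm" => AlgSt.RepByAlgSpWith (AlgSp.LocP @Smooth)

/-- The points of a value are the images of the points. -/
theorem inSet_obj_iff (h𝒳 : IsFibGrpd 𝒳.p) (h𝒴 : IsFibGrpd 𝒴.p) (g : 𝒳 ⥤ᵇ 𝒴) (T : Set (AlgSt.Points 𝒴))
    (a : 𝒳.obj) : inSet T (g.obj a) ↔ inSet (AlgSt.Points.map g ⁻¹' T) a := by
  constructor
  · rintro h _ ⟨p, rfl, ⟨φ⟩⟩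
    exact h ⟨p.map g, rfl, ⟨g.map φ⟩⟩
  · rintro h _ ⟨p, rfl, ⟨φ⟩⟩
    obtain ⟨b, ψ, e, hψ⟩ := fibGrpd_lift h𝒳 a (𝒴.p.map φ ≫ eqToHom (g.w_obj a))
    obtain ⟨χ, -, -⟩ := fibGrpd_fac h𝒴 (g.map ψ) φ (eqToHom ((g.w_obj b).trans e).symm) (by
      rw [based_map g ψ, hψ]
      simp)
    have h1 := h (mk_mem_ptsOf { K := p.K, str := p.str, obj := b, lies := e.trans p.lies } |> ptsOf_mono ψ)
    have h2 : AlgSt.Points.mk p = AlgSt.Points.map g
        (AlgSt.Points.mk { K := p.K, str := p.str, obj := b, lies := e.trans p.lies }) :=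
      AlgSt.Points.sound ⟨p, 𝟙 _, χ, trivial⟩
    rw [h2]
    exact h1

/-- A functor restricted to open sets of points. -/
def restrictTo (g : 𝒳 ⥤ᵇ 𝒴) (P : 𝒳.obj → Prop) (Q : 𝒴.obj → Prop) (h : ∀ a, P a → Q (g.obj a)) :
    AlgSt.fullSub 𝒳 P ⥤ᵇ AlgSt.fullSub 𝒴 Q where
  toFunctor := ObjectProperty.lift _ (BasedFunctor.comp (AlgSt.subIncl 𝒳 P) g).toFunctor fun a => h a.obj a.property
  w := (BasedFunctor.comp (AlgSt.subIncl 𝒳 P) g).w

/-- `LocQ` of a composite with a smooth fully faithful functor passes to the first one. -/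
theorem locQ_of_comp_ff {P : MorphismProperty (AlgSp.Sp S)} (hP : AlgSp.IsSmoothLocalST P) (h𝒲 : AS 𝒲)
    (h𝒳 : AS 𝒳) (h𝒴 : AS 𝒴) (g : 𝒲 ⥤ᵇ 𝒳) (i : 𝒳 ⥤ᵇ 𝒴) [i.toFunctor.Full] [i.toFunctor.Faithful] (hi : Sm i)
    (h : AlgSt.LocQ P (BasedFunctor.comp g i)) : AlgSt.LocQ P g := by
  obtain ⟨V, y, hy, hys⟩ := h𝒳.atlas
  have k := good_of_locQ hP h𝒲 h𝒴 h
    (with_comp_locP AlgSpLib.etLocal_smooth h𝒳.isStack.1 hy hi)
  exact locQ_of_good h𝒲 h𝒳 hy hys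
    ((pcov_equiv (E := fpMap (F := y) (G := g) (F' := BasedFunctor.comp y i) (G' := BasedFunctor.comp g i)
        (BasedFunctor.id _) (BasedFunctor.id _) i (Iso.refl _) (Iso.refl _))
      (isEquivOver_fpMap _ _ _ _ _ (isEquivOver_id _) (isEquivOver_id _)) (Iso.refl _)).2 k)

theorem locQ_mono {P Q : MorphismProperty (AlgSp.Sp S)} (h : P ≤ Q) {f : 𝒳 ⥤ᵇ 𝒴} (hf : AlgSt.LocQ P f) :
    AlgSt.LocQ Q f := by
  obtain ⟨U, V, x, y, k, α, hx, hxs, hy, hk⟩ := hf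
  exact ⟨U, V, x, y, k, α, hx, hxs, hy, h _ hk⟩

theorem smooth_openImm {j : 𝒳 ⥤ᵇ 𝒴} (hj : AlgSt.IsOpenImm j) : Sm j := fun U y => by
  obtain ⟨F, e, he, ha⟩ := hj U y
  exact ⟨F, e, he, AlgSpLib.locP_of_repWith AlgSpLib.etLocal_smooth F.property
    (AlgSpLib.RepWith.mono (fun _ _ k (_ : IsOpenImmersion k) => (inferInstance : Smooth k)) ha)⟩

end Groth.Agent.Stk19b
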