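import Groth.Agent.Stk19b.OpenSub.Restrict
import Groth.Agent.MorProj.SmoothLocus
import Groth.Agent.AlgSpLib.FppfSource

/-! Smoothness near a point, descended along flat base changes, and read on open substacks. -/

set_option autoImplicit false
set_option linter.style.haveILetI false
set_option backward.isDefEq.respectTransparency false
set_option backward.isDefEq.respectTransparency.types false

universe u

open CategoryTheory CategoryTheory.Limits AlgebraicGeometry Opposite FibCat Groth.Agent.Stk19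

namespace Groth.Agent.Stk19b

/-- A morphism of schemes is smooth near a point. -/
def SmoothNear {U V : Scheme.{u}} (k : U ⟶ V) (u : U) : Prop :=
  ∃ O : U.Opens, u ∈ O ∧ Smooth (O.ι ≫ k)

theorem smooth_of_le {U V : Scheme.{u}} (k : U ⟶ V) {O O' : U.Opens} (h : O' ≤ O) [Smooth (O.ι ≫ k)] :
    Smooth (O'.ι ≫ k) := by
  rw [← U.homOfLE_ι h, Category.assoc]
  infer_instance

theorem smooth_on {U V : Scheme.{u}} (k : U ⟶ V) (O : U.Opens) (h : ∀ u ∈ O, SmoothNear k u) :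
    Smooth (O.ι ≫ k) := by
  choose N hN hs using h
  refine IsZariskiLocalAtSource.of_openCover (P := @Smooth)
    (Scheme.openCoverOfIsOpenCover _ (fun u : O => O.ι ⁻¹ᵁ N u.1 u.2) (TopologicalSpace.IsOpenCover.mk
      (top_le_iff.1 fun w _ => TopologicalSpace.Opens.mem_iSup.2 ⟨w, hN w.1 w.2⟩))) fun u => ?_
  haveI := hs u.1 u.2
  show Smooth ((O.ι ⁻¹ᵁ N u.1 u.2).ι ≫ O.ι ≫ k)
  rw [← morphismRestrict_ι_assoc]
  infer_instance

/-- Smoothness near a point descends along flat base change, under finite presentation. -/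
theorem smoothNear_of_baseChange {U V G W : Scheme.{u}} {k : U ⟶ V} {q : G ⟶ V} {p : W ⟶ U} {r : W ⟶ G}
    (sq : IsPullback p r k q) [Flat q] (hfp : LocallyOfFinitePresentation k ∨ LocallyOfFinitePresentation q)
    {w : W} (h : SmoothNear r w) : SmoothNear k (p w) := by
  obtain ⟨O', hw, hO'⟩ := h
  haveI : Flat p := MorphismProperty.of_isPullback sq.flip ‹Flat q›
  obtain ⟨O₁, hm, hO₁⟩ : ∃ O₁ : U.Opens, p w ∈ O₁ ∧ LocallyOfFinitePresentation (O₁.ι ≫ k) := by
    rcases hfp with hk | hq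
    · exact ⟨⊤, trivial, inferInstance⟩
    · haveI : LocallyOfFinitePresentation p := MorphismProperty.of_isPullback sq.flip hq
      let s := O'.ι ≫ p
      haveI : UniversallyOpen s := UniversallyOpen.of_flat s
      let O₁ : U.Opens := ⟨Set.range s, s.isOpenMap.isOpen_range⟩
      have hr : Set.range s ⊆ Set.range O₁.ι := by rw [Scheme.Opens.range_ι]; exact subset_rfl
      let s' : (O' : Scheme.{u}) ⟶ O₁ := IsOpenImmersion.lift O₁.ι s hr
      have hs' : s' ≫ O₁.ι = s := IsOpenImmersion.lift_fac O₁.ι s hr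
      haveI : Flat (s' ≫ O₁.ι) := by rw [hs']; infer_instance
      haveI : LocallyOfFinitePresentation (s' ≫ O₁.ι) := by rw [hs']; infer_instance
      haveI : Flat s' :=
        MorphismProperty.of_postcomp (W := @Flat) (W' := @IsOpenImmersion) s' O₁.ι inferInstance inferInstance
      haveI : LocallyOfFinitePresentation s' :=
        MorphismProperty.of_postcomp (W := @LocallyOfFinitePresentation) (W' := @IsOpenImmersion) s' O₁.ι
          inferInstance inferInstance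
      haveI : Surjective s' := ⟨fun o => by
        obtain ⟨t', ht'⟩ := o.2
        refine ⟨t', O₁.ι.isOpenEmbedding.injective ?_⟩
        rw [← Scheme.Hom.comp_apply, hs']
        exact ht'⟩
      refine ⟨O₁, ⟨⟨w, hw⟩, rfl⟩, AlgSpLib.lfp_of_comp_fppf s' _ ?_⟩
      rw [← Category.assoc, hs']
      show LocallyOfFinitePresentation ((O'.ι ≫ p) ≫ k)
      rw [Category.assoc, sq.w, ← Category.assoc]
      infer_instance
  let P : W.Opens := p ⁻¹ᵁ O₁
  have sq₁ : IsPullback (p ∣_ O₁) (P.ι ≫ r) (O₁.ι ≫ k) q :=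
    (isPullback_morphismRestrict p O₁).paste_vert sq
  haveI : LocallyOfFinitePresentation (P.ι ≫ r) := MorphismProperty.of_isPullback sq₁ hO₁
  have hl := MorProj.smoothLocus_baseChange (O₁.ι ≫ k) q (P.ι ≫ r) (p ∣_ O₁) sq₁ (Or.inr ‹Flat q›)
  let w' : P := ⟨w, hm⟩
  have hw' : w' ∈ (P.ι ≫ r).smoothLocus := by
    have heq := Scheme.Hom.preimage_smoothLocus_eq (P.ι ⁻¹ᵁ O').ι (P.ι ≫ r)
    haveI : Smooth ((P.ι ⁻¹ᵁ O').ι ≫ P.ι ≫ r) := by
      rw [← morphismRestrict_ι_assoc]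
      infer_instance
    rw [Scheme.Hom.smoothLocus_eq_top ((P.ι ⁻¹ᵁ O').ι ≫ P.ι ≫ r)] at heq
    exact heq.ge (Set.mem_univ (⟨w', hw⟩ : (P.ι ⁻¹ᵁ O' : P.toScheme.Opens)))
  have hu : (p ∣_ O₁) w' ∈ (O₁.ι ≫ k).smoothLocus := hl.le hw'
  let L := (O₁.ι ≫ k).smoothLocus
  haveI : Smooth (L.ι ≫ O₁.ι ≫ k) := by
    rw [← Scheme.Hom.smoothLocus_eq_top_iff, ← Scheme.Hom.preimage_smoothLocus_eq]
    exact top_le_iff.1 fun x _ => x.2
  refine ⟨(L.ι ≫ O₁.ι).opensRange, ⟨⟨_, hu⟩, ?_⟩, ?_⟩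
  · show O₁.ι ((p ∣_ O₁) w') = p w
    rw [← Scheme.Hom.comp_apply, morphismRestrict_ι]
    rfl
  · rw [← Scheme.Hom.isoOpensRange_inv_comp (L.ι ≫ O₁.ι), Category.assoc, Category.assoc]
    infer_instance

variable {S : Scheme.{u}} {𝒳 𝒴 𝒲 : AlgSt.Cat S}

local notation "AS" => AlgSt.IsAlgStack Scheme.fppfPrecoverage
local notation "Sm" => AlgSt.RepByAlgSpWith (AlgSp.LocP @Smooth)
local notation "Srj" => AlgSt.RepByAlgSpWith AlgSp.IsSurjectiveMor

/-- Smoothness on an open substack is smoothness near the points of a chart lying in it. -/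
theorem smoothNear_of_locQ (h𝒳 : AS 𝒳) (h𝒴 : AS 𝒴) (f : 𝒳 ⥤ᵇ 𝒴) {T : Set (AlgSt.Points 𝒳)} (hT : IsOpen T)
    (hf : AlgSt.LocQ (AlgSp.LocP @Smooth) (BasedFunctor.comp (AlgSt.subIncl 𝒳 (inSet T)) f))
    {V : Over S} {y : overCat V ⥤ᵇ 𝒴} (hy : Sm y) {W : Over S} (e : overCat W ⥤ᵇ fp y f) (k : W ⟶ V)
    (he : Sm e) (a : BasedFunctor.comp e (fpFst y f) ≅ AlgSt.overMap k) (w : W.left)
    (hw : AlgSt.Points.ofChart (BasedFunctor.comp e (fpSnd y f)) w ∈ T) : SmoothNear k.left w := by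
  have hg := h𝒳.isStack.1
  let c := BasedFunctor.comp e (fpSnd y f)
  let O : W.left.Opens := ⟨AlgSt.Points.ofChart c ⁻¹' T, hT.preimage (continuous_ofChart h𝒳 c)⟩
  let W' : Over S := Over.mk (O.ι ≫ W.hom)
  let u : W' ⟶ W := Over.homMk O.ι
  have : Smooth u.left := inferInstanceAs (Smooth O.ι)
  let fi := BasedFunctor.comp (AlgSt.subIncl 𝒳 (inSet T)) f
  let z := BasedFunctor.comp (AlgSt.overMap u) c
  let L : overCat W' ⥤ᵇ AlgSt.fullSub 𝒳 (inSet T) :=
    { toFunctor := ObjectProperty.lift _ z.toFunctor fun b => (inSet_chart_iff hg z b _).2 fun p => by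
        rw [ofChart_overMap]
        exact (b.hom.left p).2
      w := z.w }
  let e' : overCat W' ⥤ᵇ fp y fi :=
    fpLift (BasedFunctor.comp (AlgSt.overMap u) (BasedFunctor.comp e (fpFst y f))) L
      ((Stk.restr (BasedFunctor.comp (AlgSt.overMap u) e) _).mapIso (fpIso y f))
  let J : fp y fi ⥤ᵇ fp y f :=
    fpLift (fpFst y fi) (BasedFunctor.comp (fpSnd y fi) (AlgSt.subIncl 𝒳 (inSet T))) (fpIso y fi)
  have : J.toFunctor.Full := ⟨fun {p q} m =>
    ⟨fpHom m.hom.fst (ObjectProperty.homMk m.hom.snd) m.hom.w, fp_hom_ext rfl rfl⟩⟩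
  have : J.toFunctor.Faithful := ⟨fun {p q m m'} hm =>
    fp_hom_ext (congrArg (fun t => t.hom.fst) hm) (ObjectProperty.hom_ext _ (congrArg (fun t => t.hom.snd) hm :))⟩
  have hJ : BasedFunctor.comp e' J = BasedFunctor.comp (AlgSt.overMap u) e := rfl
  have he' : Sm e' := repByAlgSpWith_of_comp_ff e' J (by
    rw [hJ]
    exact repByAlgSpWith_comp_desc (respSrc_locP AlgSpLib.etLocal_smooth) (atlasDescent_locP AlgSpLib.etLocal_smooth)
      (compStable_locP AlgSpLib.etLocal_smooth) (isFibGrpd_overCat W') (isFibGrpd_overCat W) (smooth_overMap u) he)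
  obtain ⟨j⟩ := overMap_comp u k
  have h := (locP_yon_iff AlgSpLib.etLocal_smooth (u ≫ k)).1
    (good_of_locQ smST_smooth (isOpenSubstack_inSet h𝒳 hT).2.1 h𝒴 hf hy W' e' (u ≫ k) he'
      ((Stk.restr (AlgSt.overMap u) _).mapIso a ≪≫ j))
  exact ⟨O, hw, h⟩

/-- Smoothness of a chart on an open gives smoothness on its image. -/
theorem locQ_image (h𝒳 : AS 𝒳) (f : 𝒳 ⥤ᵇ 𝒴) {U V : Over S} {x : overCat U ⥤ᵇ 𝒳} {y : overCat V ⥤ᵇ 𝒴}
    {k : U ⟶ V} (α : BasedFunctor.comp x f ≅ BasedFunctor.comp (AlgSt.overMap k) y) (hx : Sm x) (hy : Sm y)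
    (O : U.left.Opens) (hO : Smooth (O.ι ≫ k.left)) :
    IsOpen (AlgSt.Points.ofChart x '' O) ∧ AlgSt.LocQ (AlgSp.LocP @Smooth)
      (BasedFunctor.comp (AlgSt.subIncl 𝒳 (inSet (AlgSt.Points.ofChart x '' O))) f) := by
  have hg := h𝒳.isStack.1
  have hB : IsOpen (AlgSt.Points.ofChart x '' O) := isOpenMap_ofChart_smooth hg hx _ O.2
  refine ⟨hB, ?_⟩
  let B := AlgSt.Points.ofChart x '' O
  let U' : Over S := Over.mk (O.ι ≫ U.hom)
  let u : U' ⟶ U := Over.homMk O.ι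
  have : Smooth u.left := inferInstanceAs (Smooth O.ι)
  let z := BasedFunctor.comp (AlgSt.overMap u) x
  let L : overCat U' ⥤ᵇ AlgSt.fullSub 𝒳 (inSet B) :=
    { toFunctor := ObjectProperty.lift _ z.toFunctor fun b => (inSet_chart_iff hg z b _).2 fun p => by
        rw [ofChart_overMap]
        exact ⟨_, (b.hom.left p).2, rfl⟩
      w := z.w }
  haveI : (AlgSt.subIncl 𝒳 (inSet B)).toFunctor.Full := inferInstanceAs (ObjectProperty.ι _).Full
  haveI : (AlgSt.subIncl 𝒳 (inSet B)).toFunctor.Faithful := inferInstanceAs (ObjectProperty.ι _).Faithful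
  have hL : Sm L := repByAlgSpWith_of_comp_ff L (AlgSt.subIncl 𝒳 (inSet B))
    (repByAlgSpWith_comp_desc (respSrc_locP AlgSpLib.etLocal_smooth) (atlasDescent_locP AlgSpLib.etLocal_smooth)
      (compStable_locP AlgSpLib.etLocal_smooth) (isFibGrpd_overCat U') (isFibGrpd_overCat U) (smooth_overMap u) hx)
  have hB' := isOpenSubstack_inSet h𝒳 hB
  have hLs : Srj L := with_surjective_of_ofChart hB'.2.1.isStack.1 (repByAlgSp1_of_with hL) fun p => by
    obtain ⟨t, ht, e⟩ : AlgSt.Points.map (AlgSt.subIncl 𝒳 (inSet B)) p ∈ B :=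
      (range_subIncl_inSet B hg).le ⟨p, rfl⟩
    refine ⟨⟨t, ht⟩, points_map_subIncl_injective hg (fun _ _ φ h => inSet_of_hom φ h) ?_⟩
    rw [map_ofChart, ← e]
    exact ofChart_overMap u x ⟨t, ht⟩
  obtain ⟨j⟩ := overMap_comp u k
  exact ⟨U', V, L, y, u ≫ k,
    (Stk.restr (AlgSt.overMap u) _).mapIso α ≪≫ (postB _ y).mapIso j, hL, hLs, hy,
    (locP_yon_iff AlgSpLib.etLocal_smooth (u ≫ k)).2 hO⟩

/-- Base change of a chart, with both projections. -/
theorem exists_chart_baseChange' {V G W : Over S} {q : 𝒲 ⥤ᵇ overCat V} (g : G ⟶ V) {e : overCat W ⥤ᵇ 𝒲}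
    {k : W ⟶ V} (i : BasedFunctor.comp e q ≅ AlgSt.overMap k) :
    ∃ e' : overCat (pullback k g) ⥤ᵇ fp (AlgSt.overMap g) q,
      Nonempty (BasedFunctor.comp e' (fpFst (AlgSt.overMap g) q) ≅ AlgSt.overMap (pullback.snd k g)) ∧
      Nonempty (BasedFunctor.comp e' (fpSnd (AlgSt.overMap g) q) ≅
        BasedFunctor.comp (AlgSt.overMap (pullback.fst k g)) e) ∧
      (Sm e → Sm e') ∧ (Srj e → Srj e') := by
  obtain ⟨E, hE, hE₁, hE₂⟩ := exists_fp_equiv ((IsPullback.of_hasPullback k g).map (AlgSp.yon S)).flip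
  obtain ⟨hfull, hfaith, -⟩ := EqvData.of_isEquivOver (isEquivOver_toOverCat V)
  let E₁ : fp (AlgSt.ofSpMap ((AlgSp.yon S).map g)) (AlgSt.ofSpMap ((AlgSp.yon S).map k)) ⥤ᵇ
      fp (AlgSt.overMap g) (AlgSt.overMap k) :=
    fpMap (AlgSt.toOverCat G) (AlgSt.toOverCat W) (AlgSt.toOverCat V) (Iso.refl _) (Iso.refl _)
  have hE₁' : IsEquivOver E₁ := isEquivOver_fpMap _ _ _ _ _ (isEquivOver_toOverCat G) (isEquivOver_toOverCat W)
  obtain ⟨E₂, hE₂', hE₂f, hE₂s⟩ := exists_congr (F := AlgSt.overMap g) (G := AlgSt.overMap k) (Iso.refl _) i.symm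
  obtain ⟨G', hG', -, ⟨c⟩⟩ := exists_inverse (isEquivOver_fpCompFactor (AlgSt.overMap g) e q)
  let T₀ := BasedFunctor.comp (BasedFunctor.comp (AlgSt.ofOverCat (pullback k g)) E) (BasedFunctor.comp E₁ E₂)
  let T := BasedFunctor.comp (BasedFunctor.comp (AlgSt.ofOverCat (pullback k g)) E)
    (BasedFunctor.comp E₁ (BasedFunctor.comp E₂ G'))
  have hT : IsEquivOver T := isEquivOver_comp (isEquivOver_comp (isEquivOver_ofOverCat _) hE)
    (isEquivOver_comp hE₁' (isEquivOver_comp hE₂' hG'))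
  refine ⟨BasedFunctor.comp T (fpFst (fpSnd (AlgSt.overMap g) q) e), ⟨?_⟩, ⟨?_⟩,
    fun h => with_equiv_comp hT (repByAlgSpWith_fpFst _ h), fun h => with_equiv_comp hT (repByAlgSpWith_fpFst _ h)⟩
  · refine (Stk.restr T₀ _).mapIso ((postB _ (fpFst (AlgSt.overMap g) (BasedFunctor.comp e q))).mapIso c) ≪≫ eqToIso ?_
    show BasedFunctor.comp (BasedFunctor.comp (AlgSt.ofOverCat (pullback k g)) E)
      (BasedFunctor.comp E₁ (BasedFunctor.comp E₂ (fpFst (AlgSt.overMap g) (BasedFunctor.comp e q)))) = _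
    rw [hE₂f]
    show BasedFunctor.comp (AlgSt.ofOverCat (pullback k g))
      (BasedFunctor.comp (BasedFunctor.comp E (fpFst _ _)) (AlgSt.toOverCat G)) = _
    rw [hE₁]
    rfl
  · refine (Stk.restr T _).mapIso (fpIso (fpSnd (AlgSt.overMap g) q) e) ≪≫
      (postB _ e).mapIso ((Stk.restr T₀ _).mapIso ((postB _ (fpSnd (AlgSt.overMap g) (BasedFunctor.comp e q))).mapIso c) ≪≫
        eqToIso ?_)
    show BasedFunctor.comp (BasedFunctor.comp (AlgSt.ofOverCat (pullback k g)) E)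
      (BasedFunctor.comp E₁ (BasedFunctor.comp E₂ (fpSnd (AlgSt.overMap g) (BasedFunctor.comp e q)))) = _
    rw [hE₂s]
    show BasedFunctor.comp (AlgSt.ofOverCat (pullback k g))
      (BasedFunctor.comp E (BasedFunctor.comp E₁ (fpSnd (AlgSt.overMap g) (AlgSt.overMap k)))) = _
    rw [show BasedFunctor.comp E₁ (fpSnd (AlgSt.overMap g) (AlgSt.overMap k)) =
      BasedFunctor.comp (fpSnd _ _) (AlgSt.toOverCat W) from fpMap_snd _ _ _ _ _]
    show BasedFunctor.comp (AlgSt.ofOverCat (pullback k g))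
      (BasedFunctor.comp (BasedFunctor.comp E (fpSnd _ _)) (AlgSt.toOverCat W)) = _
    rw [hE₂]
    rfl

end Groth.Agent.Stk19b
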